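import Cfsg.Agent.H69.LD.LinD

/-!
# `LinData`, type `D_m`, with the node set `{k | e w ≤ k ∧ 2 ≤ v}` of the tail (helper69, for S4791 / S4927, (D3-D))
-/

set_option autoImplicit false
set_option linter.unusedSectionVars false

namespace Cfsg.Agent.H69.LD

open Cfsg CoxeterSystem Cfsg.Agent.ChevalleyStructure.CoxeterGeom Cfsg.Agent.Tits.Roots Cfsg.Agent.Tits.Core
  Cfsg.Agent.Tits.Exchange Cfsg.Agent.Nodes.Reps Cfsg.Agent.Nodes.BNOf Cfsg.Agent.Nodes.StabComb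
  Cfsg.Agent.Nodes.Bruhat Cfsg.Agent.Nodes.OppDec Cfsg.Agent.Nodes.LeviDec Cfsg.Agent.H53.HC Cfsg.Agent.H796.XZ
  Cfsg.Agent.H965.XZ Cfsg.Agent.H636.LIN

theorem JTD_eq {m v e w : ℕ} (hm : v + e * w = m) : JTD m e w = {k : Fin m | e * w ≤ (k : ℕ) ∧ 2 ≤ v} := by
  ext k
  exact ⟨fun ⟨h1, h2⟩ => ⟨h1, by omega⟩, fun ⟨h1, h2⟩ => ⟨h1, by omega⟩⟩

variable {n : ℕ} {W Y : Type*} [Group W] [Finite W] [Group Y] [Finite Y] {cs : CoxeterSystem (Cfsg.Agent.Nodes.TypeD.M n) W}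
  {A : Fin (n + 2) → Fin (n + 2) → ℤ} {h : IsCartan (Cfsg.Agent.Nodes.TypeD.M n) A} {r : ℕ} {T : Subgroup Y}
  {n' : Fin (n + 2) → Y} {X : (Fin (n + 2) → ℤ) → Subgroup Y}

/-- **`LinData`, type `D_m`** -/
theorem exists_linData_D' (R : RGD cs h r T n' X) {p : ℕ} [hp : Fact p.Prime] [hr : Fact r.Prime]
    (hG : GG cs h T X = ⊤) (hp2 : p ≠ 2) (hpr : p ≠ r) {y v e w : ℕ}
    (hy : ∀ i : Fin (n + 2), Nat.card (X (sr i)) = y) (hy1 : 1 < y) (he : 0 < e) (ho : orderOf (y : ZMod p) = e)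
    (hm : v + e * w = n + 2) (hv : v < e) (hlin : ∀ i, ¬ p ∣ 1 + y ^ i) (hT : 1 < e → ¬ p ∣ Nat.card ↥T)
    (hcen : ∀ P₀ : Subgroup Y, IsPGroup p ↥P₀ → P₀ ≤ LJ cs h T X (JA (n + 2) e w) →
      ¬ p ∣ P₀.relIndex (LJ cs h T X (JA (n + 2) e w)) →
      Subgroup.centralizer (P₀ : Set Y) ≤ LJ cs h T X (JA (n + 2) e w ∪ {k | e * w ≤ (k : ℕ) ∧ 2 ≤ v})) :
    ∃ (P : Sylow p Y) (P₀ : Subgroup Y), LinData cs h T X p (JA (n + 2) e w) {k | e * w ≤ (k : ℕ) ∧ 2 ≤ v} P P₀ := by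
  rw [← JTD_eq hm] at hcen ⊢
  exact exists_linData_D R hG hp2 hpr hy hy1 he ho hm hv hlin hT hcen

end Cfsg.Agent.H69.LD
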