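import Cfsg.Agent.H636.LIN.BPerm
import Cfsg.Agent.Nodes.TypeD

/-!
# Block permutations in `W(D_m)` (helper69, for S4791 / S4927, (D3-D))

`e w ≤ m = n + 2`: `w` blocks of size `e` in `{0, …, m - 1}`.

* `hom cs : W →* Perm (Fin (n + 2) × Bool)` : the signed permutations, injective;
* `exists_of_perm` : the permutations of the first `N` coordinates are in the image of `W_{k + 1 < N}`;
* `phi cs hm : Equiv.Perm (Fin w) →* W`; `phi_mem_WJ`, `eq_one_of_phi_mem`, `phi_conj`, `phi_act` as in `H636/LIN/BPerm.lean`.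
-/

set_option autoImplicit false
set_option linter.unusedSectionVars false

namespace Cfsg.Agent.H69.LD

open Cfsg CoxeterSystem Cfsg.Agent.ChevalleyStructure.CoxeterGeom Cfsg.Agent.Tits.Roots Cfsg.Agent.Tits.Core
  Cfsg.Agent.Nodes.StabComb Cfsg.Agent.Nodes
open Cfsg.Agent.H796.XZ (JA JT)
open Cfsg.Agent.H636.LIN (bp bpf bpf_of_lt bpf_of_ge bpf_lt bpf_div bpf_mod bpf_mul bpf_succ bpf_mem_JA)

variable {n : ℕ}

/-- the simple reflections as permutations of the signed indices -/
def P (i : Fin (n + 2)) : Equiv.Perm (Fin (n + 2) × Bool) := ⟨TypeD.sg i, TypeD.sg i, TypeD.sg_sg i, TypeD.sg_sg i⟩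

theorem P_apply (i : Fin (n + 2)) (x : Fin (n + 2) × Bool) : P i x = TypeD.sg i x := rfl

theorem P_pow (i j : Fin (n + 2)) (m : ℕ) (x : Fin (n + 2) × Bool) :
    ((P i * P j) ^ m) x = (fun y => TypeD.sg i (TypeD.sg j y))^[m] x := by
  induction m with
  | zero => rfl
  | succ m ih =>
    rw [pow_succ', Equiv.Perm.mul_apply, ih, Function.iterate_succ_apply', Equiv.Perm.mul_apply, P_apply, P_apply]

theorem liftable : (TypeD.M n).IsLiftable (P : Fin (n + 2) → Equiv.Perm (Fin (n + 2) × Bool)) := by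
  intro i j
  refine Equiv.ext fun x => ?_
  rw [P_pow, TypeD.sg_braid, Equiv.Perm.one_apply]

/-- the permutation of the coordinates as a permutation of the signed indices -/
def LH (m : ℕ) : Equiv.Perm (Fin m) →* Equiv.Perm (Fin m × Bool) where
  toFun σ := Equiv.prodCongr σ (Equiv.refl Bool)
  map_one' := by
    refine Equiv.ext fun x => ?_
    rfl
  map_mul' σ τ := by
    refine Equiv.ext fun x => ?_
    rfl

theorem LH_apply {m : ℕ} (σ : Equiv.Perm (Fin m)) (x : Fin m × Bool) : LH m σ x = (σ x.1, x.2) := rfl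

theorem P_of_lt {k : Fin (n + 2)} (hk : (k : ℕ) + 1 < n + 2) : P k = LH (n + 2) (Equiv.swap k ⟨k + 1, hk⟩) := by
  refine Equiv.ext fun x => ?_
  rw [P_apply, LH_apply, Equiv.swap_apply_def]
  unfold TypeD.sg
  rw [dif_pos hk]
  obtain ⟨a, b⟩ := x
  dsimp only
  split_ifs <;> rfl

section W

variable {W : Type*} [Group W] (cs : CoxeterSystem (TypeD.M n) W)

/-- the signed permutations -/
noncomputable def hom : W →* Equiv.Perm (Fin (n + 2) × Bool) := cs.lift ⟨P, liftable⟩

theorem hom_simple (i : Fin (n + 2)) : hom cs (cs.simple i) = P i := cs.lift_apply_simple liftable i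

theorem ee_act (w : W) : ∀ (x : Fin (n + 2) → ℤ) (a b : Fin (n + 2) × Bool), TypeD.ee x = TypeC.wt a + TypeC.wt b →
    TypeD.ee (rep cs (TypeD.isCartan n) w x) = TypeC.wt (hom cs w a) + TypeC.wt (hom cs w b) := by
  induction w using cs.simple_induction_left with
  | one =>
    intro x a b h
    rw [map_one, map_one, Module.End.one_apply]
    exact h
  | mul_simple_left w i ih =>
    intro x a b h
    rw [rep_mul_apply, rep_simple, TypeD.ee_refl_of (ih x a b h), map_mul, hom_simple]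
    rfl

theorem hom_injective : Function.Injective (hom cs) := by
  rw [injective_iff_map_eq_one]
  intro w hw
  apply rep_injective cs (TypeD.isCartan n)
  rw [map_one]
  have h1 : ∀ i, rep cs (TypeD.isCartan n) w (sr i) = sr i := by
    intro i
    apply TypeD.ee_injective
    rw [ee_act cs w (sr i) (i, true) (TypeD.nx i) (TypeD.ee_sr i), hw]
    exact (TypeD.ee_sr i).symm
  refine LinearMap.ext fun x => ?_
  have h2 : x = ∑ k, x k • sr k := by
    funext k
    simp [sr, Finset.sum_apply, Pi.single_apply]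
  rw [h2, map_sum, Module.End.one_apply]
  exact Finset.sum_congr rfl fun k _ => by rw [map_smul, h1]

/-- the first `N` coordinates -/
def fe {N m : ℕ} (hN : N ≤ m) : Fin N ≃ {i : Fin m // (i : ℕ) < N} where
  toFun i := ⟨⟨i, by omega⟩, i.2⟩
  invFun i := ⟨i.1, i.2⟩
  left_inv _ := rfl
  right_inv _ := rfl

theorem fe_coe {N m : ℕ} (hN : N ≤ m) (i : Fin N) : (fe hN i : Fin m) = ⟨i, by omega⟩ := rfl

theorem ext_of_lt {N m : ℕ} (hN : N ≤ m) (σ : Equiv.Perm (Fin N)) {i : Fin m} (hi : (i : ℕ) < N) :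
    σ.extendDomain (fe hN) i = ⟨σ ⟨i, hi⟩, by have := (σ ⟨i, hi⟩).2; omega⟩ := by
  have h := Equiv.Perm.extendDomain_apply_image σ (fe hN) ⟨i, hi⟩
  exact h

theorem ext_of_ge {N m : ℕ} (hN : N ≤ m) (σ : Equiv.Perm (Fin N)) {i : Fin m} (hi : ¬ (i : ℕ) < N) :
    σ.extendDomain (fe hN) i = i := Equiv.Perm.extendDomain_apply_not_subtype σ (fe hN) hi

/-- **the permutations of the first `N` coordinates** -/
theorem exists_of_perm {N : ℕ} (hN : N ≤ n + 2) (σ : Equiv.Perm (Fin N)) :
    ∃ w ∈ WJ cs {k : Fin (n + 2) | (k : ℕ) + 1 < N}, hom cs w = LH (n + 2) (σ.extendDomain (fe hN)) := by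
  obtain _ | N := N
  · refine ⟨1, one_mem _, ?_⟩
    rw [map_one, Subsingleton.elim σ 1, Equiv.Perm.extendDomain_one, map_one]
  · let S : Submonoid (Equiv.Perm (Fin (N + 1))) :=
      Submonoid.comap ((LH (n + 2)).comp (Equiv.Perm.extendDomainHom (fe hN)))
        (Submonoid.map (hom cs) (WJ cs {k : Fin (n + 2) | (k : ℕ) + 1 < N + 1}).toSubmonoid)
    have hS : S = ⊤ := by
      rw [eq_top_iff, ← Equiv.Perm.mclosure_swap_castSucc_succ N, Submonoid.closure_le]
      rintro _ ⟨i, rfl⟩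
      have hi := i.2
      refine ⟨cs.simple ⟨i, by omega⟩, Subgroup.subset_closure ⟨_, ?_, rfl⟩, ?_⟩
      · change (i : ℕ) + 1 < N + 1
        omega
      · rw [hom_simple, P_of_lt (k := ⟨i, by omega⟩) (by change (i : ℕ) + 1 < n + 2; omega)]
        change LH (n + 2) _ = LH (n + 2) ((Equiv.swap i.castSucc i.succ).extendDomain (fe hN))
        congr 1
        refine Equiv.ext fun j => ?_
        rcases lt_or_ge (j : ℕ) (N + 1) with hj | hj
        · rw [ext_of_lt hN _ hj, Equiv.swap_apply_def]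
          apply Fin.ext
          change _ = ((Equiv.swap i.castSucc i.succ ⟨(j : ℕ), hj⟩ : Fin (N + 1)) : ℕ)
          rw [Equiv.swap_apply_def]
          simp only [Fin.ext_iff, Fin.val_castSucc, Fin.val_succ]
          split_ifs <;> simp_all
        · rw [ext_of_ge hN _ (by omega), Equiv.swap_apply_of_ne_of_ne]
          · intro e
            have := congrArg Fin.val e
            simp only at this
            omega
          · intro e
            have := congrArg Fin.val e
            simp only at this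
            omega
    have h1 : σ ∈ S := by rw [hS]; exact Submonoid.mem_top σ
    obtain ⟨w, hw, e⟩ := h1
    exact ⟨w, hw, e⟩

variable {e w : ℕ}

theorem bp_eq (hm : e * w ≤ n + 2) (π : Equiv.Perm (Fin w)) :
    bp hm π = (bp (le_refl (e * w)) π).extendDomain (fe hm) := by
  refine Equiv.ext fun j => ?_
  rcases lt_or_ge (j : ℕ) (e * w) with hj | hj
  · rw [ext_of_lt hm _ hj]
    apply Fin.ext
    change (bpf hm π j : ℕ) = (bpf (le_refl (e * w)) π ⟨j, hj⟩ : ℕ)
    rw [bpf_of_lt hm π hj, bpf_of_lt (le_refl (e * w)) π (i := ⟨j, hj⟩) hj]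
  · rw [ext_of_ge hm _ (by omega)]
    exact bpf_of_ge hm π hj

theorem exists_bp (hm : e * w ≤ n + 2) (π : Equiv.Perm (Fin w)) :
    ∃ x ∈ WJ cs {k : Fin (n + 2) | (k : ℕ) + 1 < e * w}, hom cs x = LH (n + 2) (bp hm π) := by
  rw [bp_eq hm π]
  exact exists_of_perm cs hm _

/-- the block permutation in `W` -/
noncomputable def phf (hm : e * w ≤ n + 2) (π : Equiv.Perm (Fin w)) : W := (exists_bp cs hm π).choose

theorem hom_phf (hm : e * w ≤ n + 2) (π : Equiv.Perm (Fin w)) : hom cs (phf cs hm π) = LH (n + 2) (bp hm π) :=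
  (exists_bp cs hm π).choose_spec.2

/-- **the block permutations** -/
noncomputable def phi (hm : e * w ≤ n + 2) : Equiv.Perm (Fin w) →* W :=
  MonoidHom.mk' (phf cs hm) fun π ρ => by
    apply hom_injective cs
    rw [map_mul, hom_phf, hom_phf, hom_phf, ← map_mul]
    congr 1
    refine Equiv.ext fun i => ?_
    exact bpf_mul hm π ρ i

theorem hom_phi (hm : e * w ≤ n + 2) (π : Equiv.Perm (Fin w)) : hom cs (phi cs hm π) = LH (n + 2) (bp hm π) :=
  hom_phf cs hm π

/-- the image lies in the parabolic subgroup of type `A_{e w - 1}` -/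
theorem phi_mem_WJ (hm : e * w ≤ n + 2) (π : Equiv.Perm (Fin w)) :
    phi cs hm π ∈ WJ cs {k : Fin (n + 2) | (k : ℕ) + 1 < e * w} := (exists_bp cs hm π).choose_spec.1

/-- `W_{JA}` preserves the blocks -/
theorem hom_div (hm : e * w ≤ n + 2) {x : W} (hx : x ∈ WJ cs (JA (n + 2) e w)) (i : Fin (n + 2)) :
    ((hom cs x (i, true)).1 : ℕ) / e = (i : ℕ) / e ∧ (hom cs x (i, true)).2 = true := by
  have hgen : ∀ k ∈ JA (n + 2) e w, ∀ j : Fin (n + 2), ((P k (j, true)).1 : ℕ) / e = (j : ℕ) / e ∧ (P k (j, true)).2 = true := by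
    intro k hk j
    obtain ⟨hk1, hk2⟩ := hk
    have hkm : (k : ℕ) + 1 < n + 2 := by omega
    rw [P_of_lt hkm, LH_apply]
    refine ⟨?_, rfl⟩
    have h3 : ((k : ℕ) + 1) / e = (k : ℕ) / e := by
      rw [Nat.succ_div, if_neg hk2, add_zero]
    rw [Equiv.swap_apply_def]
    split_ifs with h1 h2
    · rw [show j = k from h1]
      exact h3
    · rw [show j = ⟨k + 1, hkm⟩ from h2]
      exact h3.symm
    · rfl
  have key : ∀ y : W, y ∈ Subgroup.closure (cs.simple '' JA (n + 2) e w) →
      ∀ j : Fin (n + 2), ((hom cs y (j, true)).1 : ℕ) / e = (j : ℕ) / e ∧ (hom cs y (j, true)).2 = true := by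
    intro y hy
    induction hy using Subgroup.closure_induction with
    | mem y hy =>
      obtain ⟨k, hk, rfl⟩ := hy
      intro j
      rw [hom_simple]
      exact hgen k hk j
    | one =>
      intro j
      rw [map_one]
      exact ⟨rfl, rfl⟩
    | mul a b _ _ ha hb =>
      intro j
      obtain ⟨h1, h2⟩ := hb j
      rw [map_mul, Equiv.Perm.mul_apply]
      have e1 : hom cs b (j, true) = ((hom cs b (j, true)).1, true) := Prod.ext rfl h2
      rw [e1]
      obtain ⟨h3, h4⟩ := ha (hom cs b (j, true)).1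
      exact ⟨h3.trans h1, h4⟩
    | inv a _ ha =>
      -- the finite set of `(j, true)` is stable under `hom a`
      have hinj : Function.Injective fun j : Fin (n + 2) => (hom cs a (j, true)).1 := by
        intro j j' hj
        have e1 : hom cs a (j, true) = hom cs a (j', true) := Prod.ext hj ((ha j).2.trans (ha j').2.symm)
        exact congrArg Prod.fst ((hom cs a).injective e1)
      intro j
      obtain ⟨k, hk⟩ := (Finite.injective_iff_surjective.1 hinj) j
      have e2 : hom cs a (k, true) = (j, true) := Prod.ext hk (ha k).2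
      have e3 : hom cs a⁻¹ (j, true) = (k, true) := by
        rw [map_inv, Equiv.Perm.inv_eq_iff_eq]
        exact e2.symm
      rw [e3]
      refine ⟨?_, rfl⟩
      have h5 := (ha k).1
      rw [e2] at h5
      exact h5.symm
  exact key x hx i

/-- the image meets the parabolic subgroup of the blocks only in `1` -/
theorem eq_one_of_phi_mem (hm : e * w ≤ n + 2) (he : 0 < e) {π : Equiv.Perm (Fin w)} (h : phi cs hm π ∈ WJ cs (JA (n + 2) e w)) :
    π = 1 := by
  refine Equiv.ext fun b => ?_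
  have hb : e * (b : ℕ) < e * w := Nat.mul_lt_mul_of_pos_left b.2 he
  have h2 := (hom_div cs hm h ⟨e * b, by omega⟩).1
  rw [hom_phi, LH_apply] at h2
  change ((bpf hm π ⟨e * b, by omega⟩ : Fin (n + 2)) : ℕ) / e = (e * (b : ℕ)) / e at h2
  have h7 := bpf_div hm π (i := ⟨e * b, by omega⟩) hb
  have h5 : (⟨(e * (b : ℕ)) / e, Nat.div_lt_of_lt_mul hb⟩ : Fin w) = b := Fin.ext (Nat.mul_div_cancel_left _ he)
  have h6 : ((π ⟨(e * (b : ℕ)) / e, Nat.div_lt_of_lt_mul hb⟩ : Fin w) : ℕ) = b :=
    (h7.symm.trans h2).trans (Nat.mul_div_cancel_left _ he)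
  rw [h5] at h6
  exact Fin.ext h6

/-- **the conjugates of the simple reflections of the blocks** -/
theorem phi_conj (hm : e * w ≤ n + 2) (π : Equiv.Perm (Fin w)) {j : Fin (n + 2)} (hj : j ∈ JA (n + 2) e w) :
    phi cs hm π * cs.simple j = cs.simple (bpf hm π j) * phi cs hm π := by
  have hj1 : (j : ℕ) + 1 < n + 2 := by have := hj.1; omega
  have hk := bpf_mem_JA hm π hj
  have hk1 : (bpf hm π j : ℕ) + 1 < n + 2 := by have := hk.1; omega
  apply hom_injective cs
  rw [map_mul, map_mul, hom_phi, hom_simple, hom_simple, P_of_lt hj1, P_of_lt hk1, ← map_mul, ← map_mul]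
  congr 1
  have h1 : (⟨(bpf hm π j : ℕ) + 1, hk1⟩ : Fin (n + 2)) = bpf hm π ⟨j + 1, hj1⟩ :=
    Fin.ext (bpf_succ hm π (j := j) (k := ⟨j + 1, hj1⟩) rfl hj.1 hj.2).symm
  rw [h1]
  change bp hm π * Equiv.swap j ⟨j + 1, hj1⟩ = Equiv.swap (bp hm π j) (bp hm π ⟨j + 1, hj1⟩) * bp hm π
  rw [Equiv.swap_apply_apply, inv_mul_cancel_right]

variable {A : Fin (n + 2) → Fin (n + 2) → ℤ} (h : IsCartan (TypeD.M n) A)

/-- the root `φ π α_j` is a multiple of `α_k`, `k = bp π j`. -/
theorem rep_phi (hm : e * w ≤ n + 2) (π : Equiv.Perm (Fin w)) {j : Fin (n + 2)} (hj : j ∈ JA (n + 2) e w)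
    {t : Fin (n + 2)} (ht : t ≠ bpf hm π j) : rep cs h (phi cs hm π) (sr j) t = 0 := by
  have h1 : rep cs h (phi cs hm π * cs.simple j) (sr j) t = rep cs h (cs.simple (bpf hm π j) * phi cs hm π) (sr j) t := by
    rw [phi_conj cs hm π hj]
  rw [rep_mul_apply, rep_mul_apply, rep_simple_sr, map_neg, rep_simple_apply cs h _ _ _ ht, Pi.neg_apply] at h1
  omega

/-- `φ π` preserves the roots of the blocks -/
theorem phi_act [Finite W] (hm : e * w ≤ n + 2) (π : Equiv.Perm (Fin w)) {x : Fin (n + 2) → ℤ}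
    (hx : x ∈ RootsJ cs h (JA (n + 2) e w)) : rep cs h (phi cs hm π) x ∈ RootsJ cs h (JA (n + 2) e w) := by
  refine ⟨hx.1.act _, fun k hk => ?_⟩
  have h1 : x = ∑ j, x j • (sr j : Fin (n + 2) → ℤ) := by
    funext i
    rw [Finset.sum_apply, Finset.sum_eq_single i]
    · simp [sr]
    · intro j _ hj
      simp [sr, Ne.symm hj]
    · simp
  rw [h1, map_sum, Finset.sum_apply]
  refine Finset.sum_eq_zero fun j _ => ?_
  rw [map_smul, Pi.smul_apply, smul_eq_mul]
  by_cases hj : j ∈ JA (n + 2) e w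
  · rw [rep_phi cs h hm π hj, mul_zero]
    rintro rfl
    exact hk (bpf_mem_JA hm π hj)
  · rw [hx.2 j hj, zero_mul]

end W

end Cfsg.Agent.H69.LD
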