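import Cfsg.Agent.H69.LD.Seg
import Cfsg.Agent.H69.LD.PermD
import Cfsg.Agent.H636.LIN.LinA
import Cfsg.Agent.H886.XZ.LTE
import Cfsg.Agent.H965.XZ.IdxD

/-!
# `LinData`, type `D_m`, all `w` and `e` (helper69, for S4791 / S4927, (D3-D))

* `JTD m e w` : the nodes of the tail `D_v`, `v = m - e w`, if `2 ≤ v`, and `∅` if `v ≤ 1`;
* **`exists_linData_D`** : `LinData` for every linear prime of a root group datum of type `D_m`, `m = n + 2`, from the
  centralizer of `P₀` (`hcen`) and `p ∤ |T|` for `e > 1`.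
-/

set_option autoImplicit false
set_option linter.unusedSectionVars false

namespace Cfsg.Agent.H69.LD

open Cfsg CoxeterSystem Cfsg.Agent.ChevalleyStructure.CoxeterGeom Cfsg.Agent.Tits.Roots Cfsg.Agent.Tits.Core
  Cfsg.Agent.Tits.Exchange Cfsg.Agent.Nodes.Reps Cfsg.Agent.Nodes.BNOf Cfsg.Agent.Nodes.StabComb
  Cfsg.Agent.Nodes.Bruhat Cfsg.Agent.Nodes.OppDec Cfsg.Agent.Nodes.LeviDec Cfsg.Agent.H53.HC Cfsg.Agent.H796.XZ
  Cfsg.Agent.H965.XZ Cfsg.Agent.H636.LIN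

/-- type `D_m` : the nodes of the tail `D_v`, `v = m - e w`, empty if `v ≤ 1` -/
def JTD (m e w : ℕ) : Set (Fin m) := {k | e * w ≤ (k : ℕ) ∧ e * w + 2 ≤ m}

variable {n : ℕ} {W Y : Type*} [Group W] [Finite W] [Group Y] [Finite Y] {cs : CoxeterSystem (Cfsg.Agent.Nodes.TypeD.M n) W}
  {A : Fin (n + 2) → Fin (n + 2) → ℤ} {h : IsCartan (Cfsg.Agent.Nodes.TypeD.M n) A} {r : ℕ} {T : Subgroup Y}
  {n' : Fin (n + 2) → Y} {X : (Fin (n + 2) → ℤ) → Subgroup Y}

theorem hadjD (h : IsCartan (Cfsg.Agent.Nodes.TypeD.M n) A) (i j : Fin (n + 2)) (h1 : (i : ℕ) + 1 = j)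
    (h2 : (j : ℕ) + 1 < n + 2) : A i j = -1 ∧ A j i = -1 := cartD_adj h (Or.inl ⟨by omega, h1⟩)

theorem hfarD (h : IsCartan (Cfsg.Agent.Nodes.TypeD.M n) A) (i j : Fin (n + 2)) (h1 : (i : ℕ) + 1 < j)
    (h2 : (j : ℕ) + 1 < n + 2) : A i j = 0 ∧ A j i = 0 := by
  refine cartD_far h (fun e => by rw [e] at h1; omega) ?_ ?_
  · unfold Cfsg.Agent.Nodes.TypeD.Adj
    omega
  · unfold Cfsg.Agent.Nodes.TypeD.Adj
    omega

theorem JTD_of_lt {m e w : ℕ} (hv : m < e * w + 2) : JTD m e w = ∅ := by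
  refine Set.eq_empty_of_forall_notMem fun k hk => ?_
  have := hk.2
  omega

theorem Sup_RootsJ_empty' : RGD.Sup X (RootsJ cs h (∅ : Set (Fin (n + 2)))) = ⊥ := by
  refine le_bot_iff.1 (RGD.Sup_le fun z hz => ?_)
  exfalso
  exact hz.1.ne_zero (funext fun k => hz.2 k (Set.notMem_empty k))

variable (R : RGD cs h r T n' X) {p : ℕ} [hp : Fact p.Prime] [hr : Fact r.Prime]

include R

theorem not_dvd_B' (hpr : p ≠ r) (hT : ¬ p ∣ Nat.card ↥T) : ¬ p ∣ Nat.card ↥(RGD.B cs h T X) := by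
  intro h1
  have h2 := h1.trans (Subgroup.card_dvd_of_le (B_le_PJ (cs := cs) (h := h) (T := T) (X := X) (J := ∅)))
  rw [card_PJ_mul R] at h2
  rcases (hp.out.dvd_mul).1 h2 with h3 | h3
  · have h4 : LJ cs h T X (∅ : Set (Fin (n + 2))) = T := by
      change T ⊔ RGD.Sup X (RootsJ cs h ∅) = T
      rw [Sup_RootsJ_empty', sup_bot_eq]
    rw [h4] at h3
    exact hT h3
  · exact not_dvd_VJ R hpr _ h3

/-- `p` does not divide the order of the tail -/
theorem cop_tailD (hpr : p ≠ r) {y v e w : ℕ} (hy : ∀ i : Fin (n + 2), Nat.card (X (sr i)) = y) (hm : v + e * w = n + 2)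
    (hT : ¬ p ∣ Nat.card ↥T) (h1 : ∀ i < v, ¬ p ∣ gs y (i + 1)) (hlin : ∀ i, ¬ p ∣ 1 + y ^ i) :
    ¬ p ∣ Nat.card ↥(RGD.Sup X (RootsJ cs h (JTD (n + 2) e w))) := by
  rcases Nat.lt_or_ge v 2 with hv2 | hv2
  · rw [JTD_of_lt (by omega), Sup_RootsJ_empty', Subgroup.card_bot]
    exact hp.out.one_lt.not_ge ∘ Nat.le_of_dvd one_pos
  have h2 : Nat.card ↥(PJ cs h T X (JTD (n + 2) e w)) = TD y (v - 2 + 2) * Nat.card ↥(RGD.B cs h T X) :=
    card_tailD R hy (v - 2) (by omega) _ (fun j => by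
      change e * w ≤ (j : ℕ) ∧ e * w + 2 ≤ n + 2 ↔ _
      omega)
  have h3 : ¬ p ∣ Nat.card ↥(RGD.B cs h T X) := not_dvd_B' R hpr hT
  intro h5
  have h6 : RGD.Sup X (RootsJ cs h (JTD (n + 2) e w)) ≤ PJ cs h T X (JTD (n + 2) e w) :=
    le_trans (le_sup_right : _ ≤ LJ cs h T X (JTD (n + 2) e w)) LJ_le_PJ
  have h7 := h5.trans (Subgroup.card_dvd_of_le h6)
  rw [h2] at h7
  rcases (hp.out.dvd_mul).1 h7 with h8 | h8
  · unfold TD at h8
    rcases (hp.out.dvd_mul).1 h8 with h9 | h9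
    · obtain ⟨i, hi, h10⟩ := (hp.out.prime.dvd_finsetProd_iff _).1 h9
      exact h1 i (by have := Finset.mem_range.1 hi; omega) h10
    · obtain ⟨i, hi, h10⟩ := (hp.out.prime.dvd_finsetProd_iff _).1 h9
      exact hlin _ h10
  · exact h3 h8

/-- **`LinData`, type `D_m`** -/
theorem exists_linData_D (hG : GG cs h T X = ⊤) (hp2 : p ≠ 2) (hpr : p ≠ r) {y v e w : ℕ}
    (hy : ∀ i : Fin (n + 2), Nat.card (X (sr i)) = y) (hy1 : 1 < y) (he : 0 < e) (ho : orderOf (y : ZMod p) = e)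
    (hm : v + e * w = n + 2) (hv : v < e) (hlin : ∀ i, ¬ p ∣ 1 + y ^ i) (hT : 1 < e → ¬ p ∣ Nat.card ↥T)
    (hcen : ∀ P₀ : Subgroup Y, IsPGroup p ↥P₀ → P₀ ≤ LJ cs h T X (JA (n + 2) e w) →
      ¬ p ∣ P₀.relIndex (LJ cs h T X (JA (n + 2) e w)) →
      Subgroup.centralizer (P₀ : Set Y) ≤ LJ cs h T X (JA (n + 2) e w ∪ JTD (n + 2) e w)) :
    ∃ (P : Sylow p Y) (P₀ : Subgroup Y), LinData cs h T X p (JA (n + 2) e w) (JTD (n + 2) e w) P P₀ := by
  have hm' : e * w ≤ n + 2 := by omega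
  have hpos : ∀ k : ℕ, 0 < gs y (k + 1) := gs_pos y
  have hpos1 : TD y (n + 2) ≠ 0 := (TD_pos y (n + 2)).ne'
  have hpos2 : (∏ i ∈ Finset.range e, gs y (i + 1)) ^ w ≠ 0 := by
    refine pow_ne_zero _ (Finset.prod_ne_zero_iff.2 fun i _ => ?_)
    exact (hpos i).ne'
  have hfac := Cfsg.Agent.H886.XZ.fac_prod_D hp2 hy1 hm hv he ho.symm hlin
  have hfac' : (TD y (n + 2)).factorization p =
      ((∏ i ∈ Finset.range e, gs y (i + 1)) ^ w * w.factorial).factorization p := hfac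
  have hcard := Cfsg.Agent.H236.XZ.card_PJ_JA_of R (hadjD h) (hfarD h) (fun i _ => hy i) he w hm'
  have h1 : ∀ i, i + 1 < e → ¬ p ∣ gs y (i + 1) := fun i hi =>
    Cfsg.Agent.H965.XZ.not_dvd_gs ho fun h1 => by
      have := Nat.le_of_dvd (Nat.succ_pos i) h1
      omega
  refine exists_linData R (phi cs hm') (JL := {k : Fin (n + 2) | (k : ℕ) + 1 < e * w}) (fun k hk => hk.1) (phi_mem_WJ cs hm')
    (fun π x hx => phi_act cs h hm' π hx) (fun π hπ => eq_one_of_phi_mem cs hm' he hπ) hpr ?_ ?_ ?_ ?_ hcen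
  · rw [card_top_D R hG hy, hcard, Nat.card_eq_fintype_card (α := Equiv.Perm (Fin w)), Fintype.card_perm, Fintype.card_fin,
      Nat.factorization_mul hpos1 Nat.card_pos.ne', Finsupp.add_apply, hfac',
      Nat.factorization_mul hpos2 (Nat.factorial_ne_zero w),
      Nat.factorization_mul (mul_ne_zero hpos2 Nat.card_pos.ne') (Nat.factorial_ne_zero w),
      Nat.factorization_mul hpos2 Nat.card_pos.ne', Finsupp.add_apply, Finsupp.add_apply, Finsupp.add_apply]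
    ring
  · intro K hK hne
    rcases Nat.lt_or_ge 1 e with he1 | he1
    · exact dvd_relIndex R (hadjD h) (hfarD h) (fun i _ => hy i) he1 ho hm' hK hne
    · exfalso
      apply hne
      refine Set.Subset.antisymm hK fun k hk => ?_
      have h2 : e = 1 := by omega
      exact absurd (h2.symm ▸ one_dvd _ : e ∣ (k : ℕ) + 1) hk.2
  · rcases Nat.lt_or_ge 1 e with he1 | he1
    · exact cop_tailD R hpr hy hm (hT he1) (fun i hi => h1 i (by omega)) hlin
    · rw [JTD_of_lt (by omega), Sup_RootsJ_empty', Subgroup.card_bot]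
      exact hp.out.one_lt.not_ge ∘ Nat.le_of_dvd one_pos
  · rcases Nat.lt_or_ge v 2 with hv2 | hv2
    · right
      exact JTD_of_lt (by omega)
    · left
      refine ⟨fun i hi j hj => ?_, hT (by omega)⟩
      have hi' : (i : ℕ) + 1 < e * w := hi
      have hj' : e * w ≤ (j : ℕ) ∧ e * w + 2 ≤ n + 2 := hj
      have h2 : A i j = 0 ∧ A j i = 0 := by
        refine cartD_far h (fun e1 => by rw [e1] at hi'; omega) ?_ ?_
        · unfold Cfsg.Agent.Nodes.TypeD.Adj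
          omega
        · unfold Cfsg.Agent.Nodes.TypeD.Adj
          omega
      exact ⟨fun e1 => by rw [e1] at hi'; omega, h2.1, h2.2⟩

end Cfsg.Agent.H69.LD
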