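import Cfsg.Agent.H236.XZ.CardJA
import Cfsg.Agent.H965.XZ.D3A
import Cfsg.Agent.H636.LIN.LinA

/-!
# The orders of the parabolic subgroups of blocks of size `e`, any type with a chain (helper69, for S4791 / S4927)

`A` a Cartan matrix on `Fin m` which is of type `A_{m-1}` on the nodes `k`, `k + 1 < m` (types `B_m`, `D_m`):
copies of helper965's `apath_seg`, `card_seg`, `card_JA_sub` and of helper636's `dvd_relIndex`.
-/

set_option autoImplicit false
set_option linter.unusedSectionVars false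

namespace Cfsg.Agent.H69.LD

open CoxeterSystem Cfsg.Agent.ChevalleyStructure.CoxeterGeom Cfsg.Agent.Tits.Roots Cfsg.Agent.Tits.Core
  Cfsg.Agent.Tits.RootComb Cfsg.Agent.Tits.Exchange Cfsg.Agent.Nodes.Comb Cfsg.Agent.Nodes.Reps
  Cfsg.Agent.Nodes.BNOf Cfsg.Agent.Nodes.StabComb Cfsg.Agent.Nodes.Bruhat Cfsg.Agent.Nodes.OppDec
  Cfsg.Agent.Nodes.LeviDec Cfsg.Agent.Nodes.NormalForm Cfsg.Agent.ChevalleyStructure.WeylAbstract
  Cfsg.Agent.H35.Poin Cfsg.Agent.H965.XZ Cfsg.Agent.H796.XZ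

variable {m : ℕ} {M : CoxeterMatrix (Fin m)} {W Y : Type*} [Group W] [Finite W] [Group Y] [Finite Y]
  {cs : CoxeterSystem M W} {A : Fin m → Fin m → ℤ} {h : IsCartan M A} {r : ℕ} {T : Subgroup Y} {n : Fin m → Y}
  {X : (Fin m → ℤ) → Subgroup Y}

theorem apath_seg (hadj : ∀ i j : Fin m, (i : ℕ) + 1 = j → (j : ℕ) + 1 < m → A i j = -1 ∧ A j i = -1)
    (hfar : ∀ i j : Fin m, (i : ℕ) + 1 < j → (j : ℕ) + 1 < m → A i j = 0 ∧ A j i = 0) (hm : 0 < m) {J : Set (Fin m)}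
    (hJm : ∀ j ∈ J, (j : ℕ) + 1 < m) {a k : ℕ} (hak : a + k < m)
    (hJ : ∀ j : Fin m, a ≤ (j : ℕ) → (j : ℕ) < a + k → j ∈ J) (hl : ∀ j ∈ J, (j : ℕ) + 1 ≠ a)
    (hr : ∀ j ∈ J, (j : ℕ) ≠ a + k) : APath A J (fun t => nd hm (a + t)) k where
  mem t ht := hJ _ (by rw [nd_val hm (by omega)]; omega) (by rw [nd_val hm (by omega)]; omega)
  adj t ht := hadj _ _ (by rw [nd_val hm (by omega), nd_val hm (by omega)]; omega)
    (by rw [nd_val hm (by omega)]; omega)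
  far s t hs ht := hfar _ _ (by rw [nd_val hm (by omega), nd_val hm (by omega)]; omega)
    (by rw [nd_val hm (by omega)]; omega)
  out j hj hc t ht := by
    have h1 : (j : ℕ) < a ∨ a + k ≤ (j : ℕ) := by
      by_contra hcon
      push Not at hcon
      refine hc ((j : ℕ) - a) (by omega) (Fin.ext ?_)
      rw [nd_val hm (by omega)]
      omega
    have h2 := hl j hj
    have h3 := hr j hj
    rcases h1 with h1 | h1
    · exact (hfar j (nd hm (a + t)) (by rw [nd_val hm (by omega)]; omega) (by rw [nd_val hm (by omega)]; omega)).2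
    · exact (hfar (nd hm (a + t)) j (by rw [nd_val hm (by omega)]; omega) (hJm j hj)).1
  inj s hs t ht e := by
    have h1 := congrArg Fin.val e
    rw [nd_val hm (by omega), nd_val hm (by omega)] at h1
    omega

variable (R : RGD cs h r T n X)

include R

/-- **A component of type `A_k`.** -/
theorem card_seg (hadj : ∀ i j : Fin m, (i : ℕ) + 1 = j → (j : ℕ) + 1 < m → A i j = -1 ∧ A j i = -1)
    (hfar : ∀ i j : Fin m, (i : ℕ) + 1 < j → (j : ℕ) + 1 < m → A i j = 0 ∧ A j i = 0) {y : ℕ}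
    (hy : ∀ i : Fin m, (i : ℕ) + 1 < m → Nat.card (X (sr i)) = y) {J : Set (Fin m)}
    (hJm : ∀ j ∈ J, (j : ℕ) + 1 < m) {a k : ℕ}
    (hak : a + k < m) (hJ : ∀ j : Fin m, a ≤ (j : ℕ) → (j : ℕ) < a + k → j ∈ J) (hl : ∀ j ∈ J, (j : ℕ) + 1 ≠ a)
    (hr : ∀ j ∈ J, (j : ℕ) ≠ a + k) :
    Nat.card ↥(PJ cs h T X J) = fac y (k + 1) *
      Nat.card ↥(PJ cs h T X (J \ {j | a ≤ (j : ℕ) ∧ (j : ℕ) < a + k})) := by
  have hm : 0 < m := by omega
  rw [card_PJ_path R (apath_seg hadj hfar hm hJm hak hJ hl hr) (y := y)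
    (fun t ht => hy _ (by rw [nd_val hm (by omega)]; omega)), fac_eq]
  have h1 : {j : Fin m | ∃ t < k, nd hm (a + t) = j} = {j : Fin m | a ≤ (j : ℕ) ∧ (j : ℕ) < a + k} := by
    ext j
    constructor
    · rintro ⟨t, ht, rfl⟩
      show a ≤ (nd hm (a + t) : ℕ) ∧ (nd hm (a + t) : ℕ) < a + k
      rw [nd_val hm (by omega)]
      omega
    · rintro ⟨h1, h2⟩
      exact ⟨(j : ℕ) - a, by omega, Fin.ext (by rw [nd_val hm (by omega)]; omega)⟩
  rw [h1]

omit R [Finite W] [Finite Y] in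
theorem not_dvd_of_block {e t j : ℕ} (h1 : e * t ≤ j) (h2 : j + 1 < e * t + e) : ¬ e ∣ j + 1 := by
  rintro ⟨k, hk⟩
  have h3 : e * t < e * k := by omega
  have h4 : e * k < e * (t + 1) := by rw [Nat.mul_succ]; omega
  have h5 := Nat.lt_of_mul_lt_mul_left h3
  have h6 := Nat.lt_of_mul_lt_mul_left h4
  omega

/-- **one node less** -/
theorem card_JA_sub (hadj : ∀ i j : Fin m, (i : ℕ) + 1 = j → (j : ℕ) + 1 < m → A i j = -1 ∧ A j i = -1)
    (hfar : ∀ i j : Fin m, (i : ℕ) + 1 < j → (j : ℕ) + 1 < m → A i j = 0 ∧ A j i = 0) {y : ℕ}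
    (hy : ∀ i : Fin m, (i : ℕ) + 1 < m → Nat.card (X (sr i)) = y) {e w : ℕ} (he : 0 < e)
    (hw : e * w ≤ m) {j : Fin m} (hj1 : (j : ℕ) + 1 < e * w) (hj2 : ¬ e ∣ (j : ℕ) + 1) :
    ∃ b c, 0 < b ∧ b < e ∧ 0 < c ∧ c < e ∧ b + c = e ∧
      Nat.card ↥(PJ cs h T X (JA m e w)) * (fac y b * fac y c) =
        fac y e * Nat.card ↥(PJ cs h T X (JA m e w \ {j})) := by
  -- `j = e t + s`
  set t := (j : ℕ) / e with ht
  set s := (j : ℕ) % e with hs
  have hjts : e * t + s = j := Nat.div_add_mod _ _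
  have hse : s < e := Nat.mod_lt _ he
  have hs1 : s + 1 < e := by
    rcases Nat.lt_or_ge (s + 1) e with h1 | h1
    · exact h1
    · exfalso
      refine hj2 ⟨t + 1, ?_⟩
      rw [Nat.mul_succ]
      omega
  have htw : t < w := by
    by_contra hcon
    have := Nat.mul_le_mul_left e (not_lt.1 hcon)
    omega
  have htw' : e * t + e ≤ e * w := by
    have := Nat.mul_le_mul_left e (Nat.succ_le_of_lt htw)
    rwa [Nat.mul_succ] at this
  set J : Set (Fin m) := JA m e w with hJ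
  have hJm : ∀ k ∈ J, (k : ℕ) + 1 < m := fun k hk => lt_of_lt_of_le hk.1 hw
  have hmem : ∀ k : Fin m, e * t ≤ (k : ℕ) → (k : ℕ) + 1 < e * t + e → k ∈ J := fun k h1 h2 =>
    ⟨by omega, not_dvd_of_block h1 h2⟩
  have hout1 : ∀ k ∈ J, (k : ℕ) + 1 ≠ e * t := fun k hk h1 => hk.2 ⟨t, h1⟩
  have hout2 : ∀ k ∈ J, (k : ℕ) + 1 ≠ e * t + e := fun k hk h1 => hk.2 ⟨t + 1, by rw [Nat.mul_succ]; exact h1⟩
  refine ⟨s + 1, e - 1 - s, by omega, by omega, by omega, by omega, by omega, ?_⟩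
  have h1 := card_seg R hadj hfar hy (J := J) hJm (a := e * t) (k := e - 1) (by omega)
    (fun k hk1 hk2 => hmem k hk1 (by omega)) hout1 (fun k hk h2 => hout2 k hk (by omega))
  have h2 := card_seg R hadj hfar hy (J := J \ {j}) (fun k hk => hJm k hk.1) (a := e * t) (k := s) (by omega)
    (fun k hk1 hk2 => ⟨hmem k hk1 (by omega), fun h3 => by
      have h4 := congrArg Fin.val (Set.mem_singleton_iff.1 h3)
      omega⟩) (fun k hk => hout1 k hk.1) (fun k hk h3 => hk.2 (Fin.ext (by omega)))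
  have h3 := card_seg R hadj hfar hy (J := (J \ {j}) \ {k | e * t ≤ (k : ℕ) ∧ (k : ℕ) < e * t + s})
    (fun k hk => hJm k hk.1.1) (a := e * t + s + 1) (k := e - 2 - s) (by omega)
    (fun k hk1 hk2 => ⟨⟨hmem k (by omega) (by omega), fun h3 => by
      have h4 := congrArg Fin.val (Set.mem_singleton_iff.1 h3)
      omega⟩, fun h3 => by
        have := h3.2
        omega⟩)
    (fun k hk h3 => hk.1.2 (Fin.ext (by omega))) (fun k hk h3 => hout2 k hk.1.1 (by omega))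
  have h4 : ((J \ {j}) \ {k | e * t ≤ (k : ℕ) ∧ (k : ℕ) < e * t + s}) \
      {k | e * t + s + 1 ≤ (k : ℕ) ∧ (k : ℕ) < e * t + s + 1 + (e - 2 - s)} =
      J \ {k | e * t ≤ (k : ℕ) ∧ (k : ℕ) < e * t + (e - 1)} := by
    ext k
    simp only [Set.mem_sdiff, Set.mem_ofPred_eq, Set.mem_singleton_iff]
    constructor
    · rintro ⟨⟨⟨h5, h6⟩, h7⟩, h8⟩
      refine ⟨h5, fun h9 => ?_⟩
      have h10 : (k : ℕ) ≠ j := fun h11 => h6 (Fin.ext h11)
      rcases Nat.lt_or_ge (k : ℕ) (e * t + s) with h11 | h11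
      · exact h7 ⟨h9.1, h11⟩
      · exact h8 ⟨by omega, by omega⟩
    · rintro ⟨h5, h6⟩
      refine ⟨⟨⟨h5, ?_⟩, ?_⟩, ?_⟩
      · rintro rfl
        exact h6 ⟨by omega, by omega⟩
      · intro h7
        exact h6 ⟨by omega, by omega⟩
      · intro h7
        exact h6 ⟨by omega, by omega⟩
  rw [h4] at h3
  rw [h3] at h2
  rw [h1, h2]
  have e1 : e - 2 - s + 1 = e - 1 - s := by omega
  have e2 : e - 1 + 1 = e := by omega
  rw [e1, e2]
  ring

variable {p : ℕ} [hp : Fact p.Prime]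

theorem dvd_relIndex (hadj : ∀ i j : Fin m, (i : ℕ) + 1 = j → (j : ℕ) + 1 < m → A i j = -1 ∧ A j i = -1)
    (hfar : ∀ i j : Fin m, (i : ℕ) + 1 < j → (j : ℕ) + 1 < m → A i j = 0 ∧ A j i = 0) {y e w : ℕ}
    (hy : ∀ i : Fin m, (i : ℕ) + 1 < m → Nat.card (X (sr i)) = y) (he : 1 < e)
    (ho : orderOf (y : ZMod p) = e) (hw : e * w ≤ m) {K : Set (Fin m)} (hK : K ⊆ JA m e w) (hne : K ≠ JA m e w) :
    p ∣ (PJ cs h T X K).relIndex (PJ cs h T X (JA m e w)) := by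
  obtain ⟨j, hj, hjK⟩ : ∃ j ∈ JA m e w, j ∉ K := by
    by_contra hcon
    push Not at hcon
    exact hne (Set.Subset.antisymm hK hcon)
  obtain ⟨b, c, hb0, hb, hc0, hc, -, hcard⟩ := card_JA_sub (h := h) R hadj hfar hy (e := e) (w := w) (by omega) hw
    (j := j) hj.1 hj.2
  have hKj : PJ cs h T X K ≤ PJ cs h T X (JA m e w \ {j}) :=
    Cfsg.Agent.H554.RG.PJ_mono R fun k hk => ⟨hK hk, fun h1 => hjK (by
      rw [← Set.mem_singleton_iff.1 h1]; exact hk)⟩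
  have hle : PJ cs h T X (JA m e w \ {j}) ≤ PJ cs h T X (JA m e w) := Cfsg.Agent.H554.RG.PJ_mono R Set.sdiff_subset
  refine Dvd.dvd.trans ?_ (Subgroup.relIndex_dvd_of_le_left _ hKj)
  have h3 := (((PJ cs h T X (JA m e w \ {j})).subgroupOf (PJ cs h T X (JA m e w))).card_mul_index)
  rw [Nat.card_congr (Subgroup.subgroupOfEquivOfLe hle).toEquiv] at h3
  change _ * (PJ cs h T X (JA m e w \ {j})).relIndex (PJ cs h T X (JA m e w)) = _ at h3
  rw [← h3] at hcard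
  have h4 : (PJ cs h T X (JA m e w \ {j})).relIndex (PJ cs h T X (JA m e w)) * (fac y b * fac y c) = fac y e := by
    refine Nat.eq_of_mul_eq_mul_left (Nat.card_pos (α := ↥(PJ cs h T X (JA m e w \ {j})))) ?_
    rw [← mul_assoc, hcard, mul_comm]
  have h5 : p ∣ fac y e := by
    obtain ⟨k, rfl⟩ : ∃ k, e = k + 1 := ⟨e - 1, by omega⟩
    rw [fac_succ]
    exact Dvd.dvd.mul_left (dvd_gs_e ho he) _
  rw [← h4] at h5
  rcases (hp.out.dvd_mul).1 h5 with h6 | h6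
  · exact h6
  · rcases (hp.out.dvd_mul).1 h6 with h7 | h7
    · exact absurd h7 (not_dvd_fac ho hb)
    · exact absurd h7 (not_dvd_fac ho hc)

end Cfsg.Agent.H69.LD
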